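import Groth.Agent.GradedHilbLib.Components
import Groth.Agent.GrSyzLib.Hilbert
import Mathlib.RingTheory.Polynomial.HilbertPoly

/-! # Complete intersections in projective space -/

set_option autoImplicit false
universe u

open Filter Polynomial

noncomputable section

namespace GradedHilbLib

variable {k : Type u} [Field k] {n : ℕ}

local notation "S'" => MvPolynomial (Fin (n + 1)) k
local notation "𝒜" => CohB1.polyGrading n k
local notation "𝔪" => MvPolynomial.idealOfVars (Fin (n + 1)) k

lemma isHP_bot : IsHP (⊥ : Ideal S') (Polynomial.preHilbertPoly ℚ n 0) := by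
  refine Eventually.of_forall fun m => ?_
  rw [hf, Submodule.restrictScalars_bot, bot_inf_eq, finrank_bot, Nat.cast_zero, sub_zero,
    Polynomial.preHilbertPoly_eq_choose_sub_add _ n (Nat.zero_le m), Nat.sub_zero,
    show 𝒜 m = MvPolynomial.homogeneousSubmodule (Fin (n + 1)) k m from rfl,
    ← GrSyzLib.stdGr_nat k n m, GrSyzLib.finrank_stdGr, GrSyzLib.hS, if_pos (by omega), Int.toNat_natCast,
    add_comm n m]

lemma hilb_bot : hilb (⊥ : Ideal S') = Polynomial.preHilbertPoly ℚ n 0 := (eq_hilb isHP_bot).symm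

lemma ringKrullDim_quotient_map_le {A S : Type*} [CommRing A] [CommRing S] [Algebra A S] (M : Submonoid A)
    [IsLocalization M S] (I : Ideal A) :
    ringKrullDim (S ⧸ I.map (algebraMap A S)) ≤ ringKrullDim (A ⧸ I) := by
  refine Order.krullDim_le_of_strictMono
    (PrimeSpectrum.comap (Ideal.quotientMap (I.map (algebraMap A S)) (algebraMap A S) Ideal.le_comap_map))
    fun P Q hPQ => ?_
  refine lt_of_le_of_ne (Ideal.comap_mono hPQ.le) fun h => hPQ.ne (PrimeSpectrum.ext ?_)
  have h' := congrArg (fun x => x.asIdeal.comap (Ideal.Quotient.mk I)) h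
  simp only [PrimeSpectrum.comap_asIdeal, Ideal.comap_comap, Ideal.quotientMap_comp_mk] at h'
  rw [← Ideal.comap_comap, ← Ideal.comap_comap] at h'
  refine Ideal.comap_injective_of_surjective _ Ideal.Quotient.mk_surjective ?_
  rw [← IsLocalization.map_comap M S (P.asIdeal.comap _), ← IsLocalization.map_comap M S (Q.asIdeal.comap _)]
  exact congrArg (Ideal.map (algebraMap A S)) h'

/-- Polynomials cut out by a sequence reducing the dimension by its length form a regular sequence at the origin. -/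
lemma colon_eq_self {f : Fin n → S'} {d : Fin n → ℕ} (hd : ∀ i, 0 < d i) (hf : ∀ i, f i ∈ 𝒜 (d i))
    (hdim : ringKrullDim (S' ⧸ Ideal.span (Set.range f)) ≤ 1) (i : Fin n) :
    Submodule.colon (Ideal.span (f '' {j | j < i})) {f i} = Ideal.span (f '' {j | j < i}) := by
  classical
  set J := Ideal.span (f '' {j | j < i}) with hJ
  have hJh : J.IsHomogeneous 𝒜 :=
    Ideal.homogeneous_span _ _ (by rintro _ ⟨j, -, rfl⟩; exact ⟨d j, hf j⟩)
  have hfm : ∀ j, f j ∈ 𝔪 := fun j => piece_le_idealOfVars (d j) (hd j) (hf j)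
  let R := Localization.AtPrime (𝔪 : Ideal S') (hp := idealOfVars_isMaximal.isPrime)
  have := idealOfVars_isMaximal (k := k) (n := n)
  let φ := algebraMap S' R
  let rs := List.ofFn fun j => φ (f j)
  have hrm : ∀ r ∈ rs, r ∈ IsLocalRing.maximalIdeal R := by
    intro r hr
    obtain ⟨j, rfl⟩ := List.mem_ofFn.1 hr
    exact (IsLocalization.AtPrime.to_map_mem_maximal_iff R 𝔪 _).2 (hfm j)
  have hofList : Ideal.ofList rs = (Ideal.span (Set.range f)).map φ := by
    rw [Ideal.map_span, ← Set.range_comp, Ideal.ofList]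
    congr 1
    ext r
    simp [rs, List.mem_ofFn]
  have hR : (n + 1 : ℕ) = ringKrullDim R := by
    rw [IsLocalization.AtPrime.ringKrullDim_eq_height 𝔪 R, MaxHeight.mvPolynomial k (n + 1) 𝔪]
    rfl
  have hq : ringKrullDim (R ⧸ Ideal.ofList rs) ≤ 1 := by
    rw [hofList]
    exact (ringKrullDim_quotient_map_le (S := R) (𝔪 : Ideal S').primeCompl _).trans hdim
  have hcm : CommAlgDim.IsCM R := CatLib.isCMRing_mvPolynomial CatLib.isCMRing_of_isRegularRing (n + 1) 𝔪
  have hreg := CommAlgDim.isRegular_of_dim hcm hrm (by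
    rw [List.length_ofFn, ← hR, Nat.cast_add, Nat.cast_one, add_comm ((n : ℕ) : WithBot ℕ∞)]
    gcongr)
  have hreg' := (RingTheory.Sequence.isWeaklyRegular_iff R rs).1 hreg.toIsWeaklyRegular i.1
    (by simp [rs])
  have htake : Ideal.ofList (rs.take i.1) = J.map φ := by
    rw [Ideal.map_span, Ideal.ofList]
    congr 1
    ext r
    simp only [Set.mem_setOf_eq, List.mem_take_iff_getElem, Set.mem_image]
    constructor
    · rintro ⟨j, hj, rfl⟩
      simp only [rs, List.length_ofFn] at hj
      exact ⟨f ⟨j, by omega⟩, ⟨⟨j, by omega⟩, show (⟨j, _⟩ : Fin n) < i by rw [Fin.lt_def]; simp; omega, rfl⟩,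
        by simp [rs]⟩
    · rintro ⟨_, ⟨j, hj, rfl⟩, rfl⟩
      exact ⟨j.1, by simp [rs]; exact hj, by simp [rs]⟩
  refine le_antisymm ?_ fun a ha => Submodule.mem_colon_singleton.2 (J.mul_mem_right _ ha)
  intro a ha
  rw [← DirectSum.sum_support_decompose 𝒜 a]
  refine Ideal.sum_mem _ fun e _ => ?_
  have hb : ((DirectSum.decompose 𝒜 a e : 𝒜 e) : S') ∈ Submodule.colon J {f i} :=
    colon_isHomogeneous hJh (hf i) e ha
  set b := ((DirectSum.decompose 𝒜 a e : 𝒜 e) : S')
  have hbe : b ∈ 𝒜 e := SetLike.coe_mem _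
  have h1 : φ (b * f i) ∈ Ideal.ofList (rs.take i.1) • (⊤ : Submodule R R) := by
    rw [smul_eq_mul, Ideal.mul_top, htake]
    exact Ideal.mem_map_of_mem φ (Submodule.mem_colon_singleton.1 hb)
  have h2 : φ b ∈ Ideal.ofList (rs.take i.1) • (⊤ : Submodule R R) := by
    refine (Submodule.Quotient.mk_eq_zero _).1 (hreg' ?_)
    show rs[i.1]'(by simp [rs]) • (Submodule.Quotient.mk (φ b) : R ⧸ _) = rs[i.1]'(by simp [rs]) • 0
    have hgi : rs[i.1]'(by simp [rs]) = φ (f i) := by simp only [rs, List.getElem_ofFn, Fin.eta]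
    rw [smul_zero, ← Submodule.Quotient.mk_smul, Submodule.Quotient.mk_eq_zero, hgi, show φ (f i) • φ b = φ (b * f i) by rw [smul_eq_mul, map_mul, mul_comm]]
    exact h1
  rw [smul_eq_mul, Ideal.mul_top, htake, IsLocalization.algebraMap_mem_map_algebraMap_iff (𝔪 : Ideal S').primeCompl R] at h2
  obtain ⟨v, hv, hvb⟩ := h2
  obtain ⟨c, hc⟩ := exists_sub_mem v
  have hc0 : c ≠ 0 := fun h => hv (by simpa [h] using hc)
  have hw : ((DirectSum.decompose 𝒜 ((v - MvPolynomial.C c) * b) e : 𝒜 e) : S') = 0 := by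
    rw [DirectSum.coe_decompose_mul_of_right_mem 𝒜 e hbe]
    rw [if_pos le_rfl, Nat.sub_self]
    rw [← irrelevant_eq, HomogeneousIdeal.mem_iff, HomogeneousIdeal.mem_irrelevant_iff, GradedRing.proj_apply] at hc
    rw [hc, zero_mul]
  have h3 := hJh e hvb
  rw [show v * b = (v - MvPolynomial.C c) * b + c • b by rw [← MvPolynomial.C_mul']; ring, DirectSum.decompose_add,
    DirectSum.add_apply, Submodule.coe_add, hw, zero_add,
    DirectSum.decompose_of_mem_same 𝒜 (Submodule.smul_mem _ c hbe)] at h3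
  have := (Submodule.restrictScalars k J).smul_mem c⁻¹ h3
  rwa [inv_smul_smul₀ hc0] at this

/-- The Hilbert polynomial of a complete intersection of dimension zero is the product of the degrees. -/
theorem hilb_complete_intersection {f : Fin n → S'} {d : Fin n → ℕ} (hd : ∀ i, 0 < d i) (hf : ∀ i, f i ∈ 𝒜 (d i))
    (hdim : ringKrullDim (S' ⧸ Ideal.span (Set.range f)) ≤ 1) :
    hilb (Ideal.span (Set.range f)) = C ((∏ i, d i : ℕ) : ℚ) := by
  classical
  have key : ∀ i : ℕ, i ≤ n → (hilb (Ideal.span (f '' {j | j.1 < i}))).natDegree = n - i ∧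
      ((n - i).factorial : ℚ) * (hilb (Ideal.span (f '' {j | j.1 < i}))).leadingCoeff =
        ((∏ j ∈ Finset.univ.filter fun j => j.1 < i, d j : ℕ) : ℚ) := by
    intro i
    induction i with
    | zero =>
      intro _
      have he : {j : Fin n | j.1 < 0} = ∅ := by ext; simp
      rw [he, Set.image_empty, Ideal.span_empty, hilb_bot, Polynomial.natDegree_preHilbertPoly,
        Polynomial.leadingCoeff_preHilbertPoly, Nat.sub_zero]
      simp [mul_inv_cancel₀ (Nat.cast_ne_zero.2 n.factorial_ne_zero : (n.factorial : ℚ) ≠ 0)]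
    | succ i ih =>
      intro hi
      obtain ⟨ih1, ih2⟩ := ih (by omega)
      let x : Fin n := ⟨i, by omega⟩
      set J := Ideal.span (f '' {j | j.1 < i}) with hJdef
      have hJh : J.IsHomogeneous 𝒜 :=
        Ideal.homogeneous_span _ _ (by rintro _ ⟨j, -, rfl⟩; exact ⟨d j, hf j⟩)
      have hcol : Submodule.colon J {f x} = J := colon_eq_self hd hf hdim x
      have hset : {j : Fin n | j.1 < i + 1} = insert x {j | j.1 < i} := by
        ext j; simp [x, Fin.ext_iff]; omega
      have hspan : Ideal.span (f '' {j | j.1 < i + 1}) = J ⊔ Ideal.span {f x} := by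
        rw [hset, Set.image_insert_eq, Ideal.span_insert, sup_comm]
      obtain ⟨t, ht⟩ : ∃ t, n - i = t + 1 := ⟨n - i - 1, by omega⟩
      rw [ht] at ih1 ih2
      have hx0 : f x ≠ 0 := by
        intro h0
        have h1 : (1 : S') ∈ Submodule.colon J {f x} := Submodule.mem_colon_singleton.2 (by simp [h0])
        rw [hcol] at h1
        have hJ0 : hilb J = 0 :=
          (eq_hilb (P := 0) (Eventually.of_forall fun m => by simp [(Ideal.eq_top_iff_one J).2 h1, hf_top])).symm
        rw [hJ0, natDegree_zero] at ih1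
        omega
      have hP : hilb (J ⊔ Ideal.span {f x}) = hilb J - (hilb J).comp (X - C (d x : ℚ)) := by
        obtain ⟨N, hN⟩ := eventually_atTop.1 (isHP_hilb hJh)
        refine (eq_hilb (eventually_atTop.2 ⟨N + d x, fun m hm => ?_⟩)).symm
        rw [hf_sup_span hJh (hf x) hx0 (show d x ≤ m by omega), hcol, hN m (by omega), hN (m - d x) (by omega)]
        simp [Nat.cast_sub (show d x ≤ m by omega)]
      have hdx : (d x : ℚ) ≠ 0 := by exact_mod_cast (hd x).ne'
      have hnd := natDegree_sub_comp ih1 hdx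
      rw [hspan, hP, show n - (i + 1) = t by omega]
      refine ⟨hnd, ?_⟩
      have hfil : (Finset.univ.filter fun j : Fin n => j.1 < i + 1) = insert x (Finset.univ.filter fun j => j.1 < i) := by
        ext j; simp [x, Fin.ext_iff]; omega
      rw [Polynomial.leadingCoeff, hnd, coeff_sub_comp ih1, hfil, Finset.prod_insert (by simp [x]), Nat.cast_mul,
        ← ih2, Nat.factorial_succ, Nat.cast_mul]
      ring
  obtain ⟨k1, k2⟩ := key n le_rfl
  have he : {j : Fin n | j.1 < n} = Set.univ := by ext; simp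
  rw [he, Set.image_univ] at k1 k2
  rw [Nat.sub_self] at k1 k2
  rw [eq_C_of_natDegree_eq_zero k1]
  rw [Polynomial.leadingCoeff, k1] at k2
  refine congrArg C ?_
  simpa using k2

end GradedHilbLib

end
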