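import Groth.Agent.GradedHilbLib.Components
import Mathlib.Algebra.Module.Submodule.Union

/-! # General linear sections -/

set_option autoImplicit false
universe u

open Filter Polynomial

noncomputable section

namespace GradedHilbLib

variable {k : Type u} [Field k] {n : ℕ}

local notation "S'" => MvPolynomial (Fin (n + 1)) k
local notation "𝒜" => CohB1.polyGrading n k
local notation "𝔪" => MvPolynomial.idealOfVars (Fin (n + 1)) k

/-- The degree of the Hilbert polynomial is attained at a minimal prime. -/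
lemma exists_minimalPrime_degree_eq {J : Ideal S'} (hJ : J.IsHomogeneous 𝒜) (h0 : hilb J ≠ 0) :
    ∃ q ∈ J.minimalPrimes, (hilb q).degree = (hilb J).degree := by
  classical
  have hfin := Ideal.finite_minimalPrimes_of_isNoetherianRing S' J
  let e := hfin.toFinset.equivFin.symm
  let p : Fin hfin.toFinset.card → Ideal S' := fun i => (e i).1
  have hp : ∀ q : Ideal S', q ∈ J.minimalPrimes ↔ ∃ i, q = p i := fun q =>
    ⟨fun hq => ⟨e.symm ⟨q, hfin.mem_toFinset.2 hq⟩, by simp [p]⟩,
      fun ⟨i, hi⟩ => hi ▸ hfin.mem_toFinset.1 (e i).2⟩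
  have : ∀ i, (p i).IsPrime := fun i => ((hp _).2 ⟨i, rfl⟩).1.1
  have hsum := degree_eq_sum hJ p (fun a b h => e.injective (Subtype.ext h)) hp
  have hne : ((hilb J).natDegree.factorial : ℚ) * (hilb J).leadingCoeff ≠ 0 :=
    mul_ne_zero (Nat.cast_ne_zero.2 (Nat.factorial_ne_zero _)) (leadingCoeff_ne_zero.2 h0)
  rw [hsum] at hne
  obtain ⟨i, -, hi⟩ := Finset.exists_ne_zero_of_sum_ne_zero hne
  refine ⟨p i, (hp _).2 ⟨i, rfl⟩, ?_⟩
  by_cases hd : (hilb (p i)).natDegree = (hilb J).natDegree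
  · rw [if_pos hd] at hi
    have : hilb (p i) ≠ 0 := fun h => hi (by simp [h])
    rw [degree_eq_natDegree this, degree_eq_natDegree h0, hd]
  · exact absurd (if_neg hd) hi

/-- Over an infinite field some linear form cuts down the dimension. -/
lemma exists_linear_drop [Infinite k] {J : Ideal S'} (hJ : J.IsHomogeneous 𝒜) :
    ∃ h ∈ 𝒜 1, hilb (J ⊔ Ideal.span {h}) = 0 ∨ (hilb (J ⊔ Ideal.span {h})).degree < (hilb J).degree := by
  classical
  let s : Set (Ideal S') := {q | q ∈ J.minimalPrimes ∧ hilb q ≠ 0}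
  have : Finite s := ((Ideal.finite_minimalPrimes_of_isNoetherianRing S' J).subset fun q hq => hq.1).to_subtype
  let P : s → Submodule k (𝒜 1) := fun q => (Submodule.restrictScalars k q.1).comap (𝒜 1).subtype
  have hP : ∀ q, P q ≠ ⊤ := by
    rintro ⟨q, hq, hq0⟩ htop
    have := hq.1.1
    have hm : (𝔪 : Ideal S') ≤ q := by
      refine Ideal.span_le.2 ?_
      rintro _ ⟨i, rfl⟩
      have hx : (⟨MvPolynomial.X i, MvPolynomial.isHomogeneous_X k i⟩ : 𝒜 1) ∈ P ⟨q, hq, hq0⟩ := htop ▸ Submodule.mem_top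
      exact hx
    obtain rfl := idealOfVars_isMaximal.eq_of_le this.ne_top hm
    apply hq0
    refine (eq_hilb (P := 0) (eventually_atTop.2 ⟨1, fun m hm => ?_⟩)).symm
    rw [eval_zero]
    exact hf_eq_zero (piece_le_idealOfVars m (by omega))
  obtain ⟨⟨h, hh⟩, havoid⟩ := Submodule.exists_forall_notMem_of_forall_ne_top P hP
  refine ⟨h, hh, or_iff_not_imp_left.2 fun h0 => ?_⟩
  have hJ' := sup_span_isHomogeneous hJ hh
  obtain ⟨q, hq, hqd⟩ := exists_minimalPrime_degree_eq hJ' h0
  have := hq.1.1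
  obtain ⟨p, hp, hpq⟩ := Ideal.exists_minimalPrimes_le (le_sup_left.trans hq.1.2 : J ≤ q)
  have := hp.1.1
  have hph := SegreLib.minimalPrime_isHomogeneous 𝒜 hJ hp
  have hqh := SegreLib.minimalPrime_isHomogeneous 𝒜 hJ' hq
  by_cases hp0 : hilb p = 0
  · have := degree_hilb_mono hph hqh hpq
    rw [hqd, hp0, degree_zero, le_bot_iff, degree_eq_bot] at this
    exact absurd this h0
  have hhq : h ∈ q := hq.1.2 (Ideal.mem_sup_right (Ideal.mem_span_singleton_self h))
  have hne : p ≠ q := fun he => havoid ⟨p, hp, hp0⟩ (show h ∈ p from he ▸ hhq)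
  exact hqd ▸ (degree_hilb_lt hph hqh (lt_of_le_of_ne hpq hne) hp0).trans_le (degree_hilb_mono hJ hph hp.1.2)

theorem exists_linearForms [Infinite k] : ∀ (j : ℕ) (J : Ideal S'), J.IsHomogeneous 𝒜 →
    (hilb J).degree < (j : WithBot ℕ) →
    ∃ h : Fin j → S', (∀ i, h i ∈ 𝒜 1) ∧ ∃ N : ℕ, 𝔪 ^ N ≤ J ⊔ Ideal.span (Set.range h) := by
  intro j
  induction j with
  | zero =>
    intro J hJ hd
    have h0 : hilb J = 0 := by
      by_contra h
      rw [degree_eq_natDegree h] at hd
      exact absurd (WithBot.coe_lt_coe.1 hd) (Nat.not_lt_zero _)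
    obtain ⟨N, hN⟩ := Ideal.exists_pow_le_of_le_radical_of_fg (I := (𝔪 : Ideal S')) (J := J)
      (Ideal.radical_eq_sInf J ▸ le_sInf fun q hq => by
        have := hq.2
        obtain ⟨p, hp, hpq⟩ := Ideal.exists_minimalPrimes_le hq.1
        have := hp.1.1
        have hph := SegreLib.minimalPrime_isHomogeneous 𝒜 hJ hp
        refine (idealOfVars_le_of_hilb_eq_zero hph ?_).trans hpq
        have := degree_hilb_mono hJ hph hp.1.2
        rwa [h0, degree_zero, le_bot_iff, degree_eq_bot] at this)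
      (IsNoetherian.noetherian _)
    exact ⟨Fin.elim0, fun i => i.elim0, N, hN.trans le_sup_left⟩
  | succ j ih =>
    intro J hJ hd
    obtain ⟨h₀, hh₀, hdrop⟩ := exists_linear_drop hJ
    have hlt : (hilb (J ⊔ Ideal.span {h₀})).degree < (j : WithBot ℕ) := by
      rcases hdrop with hd' | hd'
      · rw [hd', degree_zero]; exact WithBot.bot_lt_coe j
      · rcases eq_or_ne (hilb (J ⊔ Ideal.span {h₀})) 0 with h | h
        · rw [h, degree_zero]; exact WithBot.bot_lt_coe j
        have hJ0 : hilb J ≠ 0 := fun h => by simp [h] at hd'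
        rw [degree_eq_natDegree hJ0] at hd hd'
        rw [degree_eq_natDegree h] at hd' ⊢
        norm_cast at hd hd' ⊢
        omega
    obtain ⟨g, hg, N, hN⟩ := ih _ (sup_span_isHomogeneous hJ hh₀) hlt
    refine ⟨Fin.cons h₀ g, fun i => Fin.cases (by simpa using hh₀) (fun i => by simpa using hg i) i, N, ?_⟩
    rwa [Fin.range_cons, Ideal.span_insert, ← sup_assoc]

end GradedHilbLib

end
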