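import Groth.Agent.GradedHilbLib.Dim
import Groth.Agent.CatLib.CM
import Groth.Agent.CatLib.Flat
import Groth.Agent.CatLib.Univ
import Mathlib.RingTheory.Ideal.KrullsHeightTheorem

/-! # Degree as a sum over components; hypersurface sections -/

set_option autoImplicit false
universe u

open Filter Polynomial

noncomputable section

namespace GradedHilbLib

variable {k : Type u} [Field k] {n : ℕ}

local notation "S'" => MvPolynomial (Fin (n + 1)) k
local notation "𝒜" => CohB1.polyGrading n k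
local notation "𝔪" => MvPolynomial.idealOfVars (Fin (n + 1)) k

lemma isHP_of_eval {I : Ideal S'} {P : ℚ[X]}
    (h : ∃ m₀ : ℕ, ∀ m : ℕ, m₀ ≤ m → P.eval (m : ℚ) =
      (Module.finrank k ↥(CohB1.polyGrading n k m) : ℚ) -
        Module.finrank k ↥(Submodule.restrictScalars k I ⊓ CohB1.polyGrading n k m)) : IsHP I P := by
  obtain ⟨m₀, h⟩ := h
  exact eventually_atTop.2 ⟨m₀, fun m hm => (h m hm).symm⟩

/-- The degree is the sum over the components of top dimension. -/
theorem degree_eq_sum {I : Ideal S'} (hI : I.IsHomogeneous 𝒜) {r : ℕ} (p : Fin r → Ideal S')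
    [hp : ∀ i, (p i).IsPrime] (hpinj : Function.Injective p)
    (hpmin : ∀ q : Ideal S', q ∈ I.minimalPrimes ↔ ∃ i, q = p i) :
    ((hilb I).natDegree.factorial : ℚ) * (hilb I).leadingCoeff =
      ∑ i : Fin r, if (hilb (p i)).natDegree = (hilb I).natDegree then
        ((hilb (p i)).natDegree.factorial : ℚ) * (hilb (p i)).leadingCoeff * ((lenAt (p i) I).toNat : ℚ)
      else 0 := by
  classical
  have hph : ∀ i, (p i).IsHomogeneous 𝒜 := fun i =>
    SegreLib.minimalPrime_isHomogeneous 𝒜 hI ((hpmin _).2 ⟨i, rfl⟩)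
  have hpI : ∀ i, I ≤ p i := fun i => ((hpmin _).2 ⟨i, rfl⟩).1.2
  by_cases h0 : hilb I = 0
  · have hz : ∀ i, hilb (p i) = 0 := fun i => by
      have := degree_hilb_mono hI (hph i) (hpI i)
      rwa [h0, degree_zero, le_bot_iff, degree_eq_bot] at this
    simp [h0, hz]
  set t := (hilb I).natDegree with ht
  have htdeg : (hilb I).degree = (t : WithBot ℕ) := degree_eq_natDegree h0
  let s : Finset (Ideal S') := (Finset.univ.filter fun i => (hilb (p i)).degree = (t : WithBot ℕ)).image p
  have hmain := (coeff_eq_sum t I hI s htdeg.le (fun q hq => by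
      obtain ⟨i, hi, rfl⟩ := Finset.mem_image.1 hq
      exact ⟨hp i, hph i, (Finset.mem_filter.1 hi).2⟩) (fun q hq hqh hle hd => by
      obtain ⟨q', hq', hle'⟩ := Ideal.exists_minimalPrimes_le hle
      obtain ⟨i, rfl⟩ := (hpmin q').1 hq'
      have h1 : (hilb (p i)).degree = (t : WithBot ℕ) :=
        le_antisymm ((degree_hilb_mono hI (hph i) (hpI i)).trans htdeg.le)
          (hd ▸ degree_hilb_mono (hph i) hqh hle')
      refine Finset.mem_image.2 ⟨i, Finset.mem_filter.2 ⟨Finset.mem_univ i, h1⟩, ?_⟩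
      by_contra hne
      have hne0 : hilb (p i) ≠ 0 := fun h => by simp [h] at h1
      have := degree_hilb_lt (hph i) hqh (lt_of_le_of_ne hle' hne) hne0
      rw [hd, h1] at this
      exact lt_irrefl _ this)).2
  rw [leadingCoeff, ← ht, hmain, Finset.sum_image (fun a _ b _ h => hpinj h), Finset.sum_filter, Finset.mul_sum]
  refine Finset.sum_congr rfl fun i _ => ?_
  by_cases hd : (hilb (p i)).degree = (t : WithBot ℕ)
  · have hnd : (hilb (p i)).natDegree = t := natDegree_eq_of_degree_eq_some hd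
    rw [if_pos hd, if_pos hnd, mult_eq, leadingCoeff, hnd]
    ring
  · rw [if_neg hd, mul_zero]
    split_ifs with hnd
    · have : hilb (p i) = 0 := by
        by_contra hne
        exact hd (by rw [degree_eq_natDegree hne, hnd])
      simp [this]
    · rfl

/-- Dimension plus height for homogeneous primes. -/
theorem exists_dim_add_height (p : Ideal S') [p.IsPrime] (hp : p.IsHomogeneous 𝒜) :
    ringKrullDim (S' ⧸ p) + (p.height : WithBot ℕ∞) = ((n + 1 : ℕ) : WithBot ℕ∞) := by
  have hdim : ringKrullDim S' = ((n + 1 : ℕ) : WithBot ℕ∞) := by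
    rw [MvPolynomial.ringKrullDim_of_isNoetherianRing, ringKrullDim_eq_zero_of_field, zero_add]
    simp
  refine le_antisymm (hdim ▸ J2Lib.ringKrullDim_quotient_add_height_le p) ?_
  have hcat : CAlg.IsCatenary S' := CatLib.isCatenary_of_isCMRing (CatLib.isCMRing_mvPolynomial
    CatLib.isCMRing_of_isRegularRing (n + 1))
  have hpm : p ≤ 𝔪 := irrelevant_eq (k := k) (n := n) ▸
    SMTLib.le_irrelevant_of_isHomogeneous 𝒜 scalars hp (Ideal.IsPrime.ne_top ‹_›)
  let x : PrimeSpectrum S' := ⟨p, inferInstance⟩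
  let y : PrimeSpectrum S' := ⟨𝔪, idealOfVars_isMaximal.isPrime⟩
  obtain ⟨s, hs1, hs2, hsat, -⟩ := CatLib.exists_saturated (show x ≤ y from hpm)
    (CatLib.bounded_of_height CatLib.height_ne_top x y)
  have key : ∀ (j : ℕ) (hj : j < s.length + 1), (s ⟨j, hj⟩).asIdeal.height = p.height + j := by
    intro j
    induction j with
    | zero => intro hj; rw [show s ⟨0, hj⟩ = x from hs1]; simp [x]
    | succ j ih =>
      intro hj
      have := CatLib.isCatenary_height_covBy hcat (hsat ⟨j, by omega⟩)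
      rw [show (⟨j + 1, hj⟩ : Fin (s.length + 1)) = Fin.succ ⟨j, by omega⟩ from rfl, this,
        show Fin.castSucc ⟨j, _⟩ = (⟨j, by omega⟩ : Fin (s.length + 1)) from rfl, ih (by omega),
        Nat.cast_add, Nat.cast_one, add_assoc]
  have hy : (𝔪 : Ideal S').height = p.height + s.length := by
    have := key s.length (Nat.lt_succ_self _)
    rwa [show s ⟨s.length, _⟩ = y from hs2] at this
  obtain ⟨t, htlen, -⟩ := CatLib.length_le_dim_quotient s p (by rw [hs1])
  have hlen : ((s.length : ℕ∞) : WithBot ℕ∞) ≤ ringKrullDim (S' ⧸ p) := htlen ▸ Order.LTSeries.length_le_krullDim t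
  have hm := MaxHeight.mvPolynomial k (n + 1) 𝔪
  rw [show ((n + 1 : ℕ) : WithBot ℕ∞) = (((n + 1 : ℕ) : ℕ∞) : WithBot ℕ∞) from rfl, ← hm, hy, WithBot.coe_add,
    add_comm (ringKrullDim (S' ⧸ p))]
  exact add_le_add le_rfl hlen

set_option maxHeartbeats 1000000 in
/-- Components of a hypersurface section have dimension one less. -/
theorem natDegree_of_mem_minimalPrimes {I : Ideal S'} [I.IsPrime] (hI : I.IsHomogeneous 𝒜) {f : S'} {d : ℕ}
    (hf : f ∈ 𝒜 d) (hfI : f ∉ I) {t : ℕ} (ht : (hilb I).natDegree = t + 1) {q : Ideal S'} [q.IsPrime]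
    (hq : q ∈ (I ⊔ Ideal.span {f}).minimalPrimes) :
    q.IsHomogeneous 𝒜 ∧ (hilb q).natDegree = t ∧ hilb q ≠ 0 := by
  have hqh := SegreLib.minimalPrime_isHomogeneous 𝒜 (sup_span_isHomogeneous hI hf) hq
  have hIq : I ≤ q := le_sup_left.trans hq.1.2
  have hfq : f ∈ q := hq.1.2 (Ideal.mem_sup_right (Ideal.mem_span_singleton_self f))
  have hlt : (⟨I, inferInstance⟩ : PrimeSpectrum S') < ⟨q, inferInstance⟩ :=
    lt_of_le_of_ne hIq fun h => hfI (by rw [show I = q from congrArg PrimeSpectrum.asIdeal h]; exact hfq)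
  have hcov : (⟨I, inferInstance⟩ : PrimeSpectrum S') ⋖ ⟨q, inferInstance⟩ := by
    refine ⟨hlt, fun c hc1 hc2 => ?_⟩
    let A := S' ⧸ I
    let π := Ideal.Quotient.mk I
    have hπ : ∀ J : Ideal S', I ≤ J → (J.map π).comap π = J := fun J hJ => by
      rw [Ideal.comap_map_of_surjective _ Ideal.Quotient.mk_surjective, ← RingHom.ker_eq_comap_bot,
        Ideal.mk_ker, sup_eq_left.2 hJ]
    have hIc : I ≤ c.asIdeal := hc1.le
    have : (c.asIdeal.map π).IsPrime :=
      Ideal.map_isPrime_of_surjective Ideal.Quotient.mk_surjective (by rwa [Ideal.mk_ker])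
    have : (q.map π).IsPrime :=
      Ideal.map_isPrime_of_surjective Ideal.Quotient.mk_surjective (by rwa [Ideal.mk_ker])
    have hmin : q.map π ∈ ((Ideal.span {f}).map π).minimalPrimes := by
      refine ⟨⟨inferInstance, Ideal.map_mono (le_sup_right.trans hq.1.2)⟩, fun J hJ hJq => ?_⟩
      have : J.IsPrime := hJ.1
      have hle : q ≤ J.comap π := hq.2 ⟨Ideal.IsPrime.comap π, sup_le
        (fun a ha => by rw [Ideal.mem_comap, Ideal.Quotient.eq_zero_iff_mem.2 ha]; exact zero_mem _)
        (Ideal.map_le_iff_le_comap.1 hJ.2)⟩ ((Ideal.comap_mono hJq).trans (hπ q hIq).le)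
      exact Ideal.map_le_iff_le_comap.2 hle
    have : ((Ideal.span {f}).map π).IsPrincipal := by
      rw [Ideal.map_span, Set.image_singleton]; infer_instance
    have h1 := Ideal.height_le_one_of_isPrincipal_of_mem_minimalPrimes _ _ hmin
    have hcq : c.asIdeal.map π < q.map π := lt_of_le_of_ne (Ideal.map_mono hc2.le) fun h =>
      hc2.ne (PrimeSpectrum.ext (by rw [← hπ c.asIdeal hIc, h, hπ q hIq]))
    have hbc : (⊥ : Ideal A) < c.asIdeal.map π := bot_lt_iff_ne_bot.2 fun h =>
      hc1.ne (PrimeSpectrum.ext (by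
        show I = c.asIdeal
        rw [← hπ c.asIdeal hIc, h, ← RingHom.ker_eq_comap_bot, Ideal.mk_ker]))
    have : (⊥ : Ideal A).IsPrime := Ideal.isPrime_bot
    have h2 := Ideal.height_strict_mono_of_isPrime hbc
    have h3 := Ideal.height_strict_mono_of_isPrime hcq
    have h4 : (c.asIdeal.map π).height = 0 := by
      have := h3.trans_le h1
      exact ENat.lt_one_iff_eq_zero.1 this
    rw [h4] at h2
    exact absurd h2 (not_lt.2 zero_le)
  have hcat : CAlg.IsCatenary S' := CatLib.isCatenary_of_isCMRing (CatLib.isCMRing_mvPolynomial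
    CatLib.isCMRing_of_isRegularRing (n + 1))
  have hht : q.height = I.height + 1 := CatLib.isCatenary_height_covBy hcat hcov
  have e1 := exists_dim_add_height q hqh
  have e2 := exists_dim_add_height I hI
  have hI0 : hilb I ≠ 0 := ne_zero_of_natDegree_gt (n := 0) (by omega)
  rw [(ringKrullDim_quotient hI (Ideal.IsPrime.ne_top ‹_›)).2 hI0, ht] at e2
  rw [hht] at e1
  obtain ⟨a, ha⟩ := ENat.ne_top_iff_exists.1 (Ideal.height_ne_top (Ideal.IsPrime.ne_top ‹I.IsPrime›))
  rw [← ha] at e1 e2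
  have e2' : t + 2 + a = n + 1 := by exact_mod_cast e2
  rcases eq_or_ne (hilb q) 0 with h | h
  · rw [(ringKrullDim_quotient hqh (Ideal.IsPrime.ne_top ‹q.IsPrime›)).1 h] at e1
    have e1' : 0 + (a + 1) = n + 1 := by exact_mod_cast e1
    omega
  · rw [(ringKrullDim_quotient hqh (Ideal.IsPrime.ne_top ‹q.IsPrime›)).2 h] at e1
    have e1' : (hilb q).natDegree + 1 + (a + 1) = n + 1 := by exact_mod_cast e1
    exact ⟨hqh, by omega, h⟩

end GradedHilbLib

end
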