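import Groth.Agent.GradedHilbLib.HF
import Mathlib.Algebra.Polynomial.Taylor
import Mathlib.RingTheory.Length
import Mathlib.Algebra.Module.LocalizedModule.Exact
import Mathlib.RingTheory.Localization.AtPrime.Basic

/-! # Degrees of homogeneous ideals: additivity over components -/

set_option autoImplicit false
universe u

open Filter Polynomial

noncomputable section

namespace GradedHilbLib

lemma degree_le_of_eventually {f g : ℚ[X]} (h0 : ∀ᶠ m : ℕ in atTop, 0 ≤ f.eval (m : ℚ))
    (h : ∀ᶠ m : ℕ in atTop, f.eval (m : ℚ) ≤ g.eval (m : ℚ)) : f.degree ≤ g.degree := by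
  by_cases hg : g = 0
  · subst hg
    suffices f = 0 by rw [this]
    obtain ⟨N, hN⟩ := eventually_atTop.1 (h0.and h)
    refine eq_of_infinite_eval_eq f 0 (Set.Infinite.mono ?_
      ((Set.Ici_infinite N).image (f := fun m : ℕ => (m : ℚ)) Nat.cast_injective.injOn))
    rintro _ ⟨m, hm, rfl⟩
    exact le_antisymm ((hN m hm).2) (by rw [eval_zero]; exact (hN m hm).1)
  · rw [degree_eq_natDegree hg]
    exact degree_le_of_natDegree_le (CommAlgDim.natDegree_le_of_eventually_le h0 h)

lemma degree_comp_shift (P : ℚ[X]) (c : ℚ) : (P.comp (X - C c)).degree = P.degree := by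
  by_cases h : P = 0
  · simp [h]
  have h1 : (P.comp (X - C c)).natDegree = P.natDegree := by
    rw [natDegree_comp, natDegree_X_sub_C, mul_one]
  have h2 : P.comp (X - C c) ≠ 0 := fun e => h (by
    have := congrArg (fun q : ℚ[X] => q.comp (X + C c)) e
    simpa [comp_assoc] using this)
  rw [degree_eq_natDegree h, degree_eq_natDegree h2, h1]

lemma coeff_comp_shift {P : ℚ[X]} {t : ℕ} (h : P.degree ≤ (t : WithBot ℕ)) (c : ℚ) :
    (P.comp (X - C c)).coeff t = P.coeff t := by
  have e : P.comp (X - C c) = taylor (-c) P := by rw [taylor_apply, C_neg, sub_eq_add_neg]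
  rw [e, taylor_coeff, eval_eq_sum_range' (n := 1)]
  · simp [hasseDeriv_coeff]
  · rw [Nat.lt_one_iff, ← Nat.le_zero]
    refine (natDegree_hasseDeriv_le P t).trans ?_
    have := natDegree_le_of_degree_le h
    omega

lemma degree_sub_comp_lt {P : ℚ[X]} (hP : P ≠ 0) (c : ℚ) : (P - P.comp (X - C c)).degree < P.degree := by
  refine degree_sub_lt_left (degree_comp_shift P c).symm hP ?_
  rw [leadingCoeff_comp (by rw [natDegree_X_sub_C]; exact one_ne_zero), leadingCoeff_X_sub_C, one_pow, mul_one]

lemma coeff_sub_comp {P : ℚ[X]} {t : ℕ} (h : P.natDegree = t + 1) (c : ℚ) :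
    (P - P.comp (X - C c)).coeff t = c * ((t + 1 : ℕ) : ℚ) * P.leadingCoeff := by
  have e : P.comp (X - C c) = taylor (-c) P := by rw [taylor_apply, C_neg, sub_eq_add_neg]
  rw [coeff_sub, e, taylor_coeff, eval_eq_sum_range' (n := 2)]
  · simp only [Finset.sum_range_succ, Finset.sum_range_zero, zero_add, hasseDeriv_coeff, pow_zero,
      Nat.choose_self, Nat.cast_one, pow_one, mul_one]
    rw [show (1 + t).choose t = t + 1 by rw [add_comm, Nat.choose_succ_self_right],
      show (1 + t : ℕ) = t + 1 by omega, leadingCoeff, h]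
    ring
  · have := natDegree_hasseDeriv_le P t
    omega

lemma natDegree_sub_comp {P : ℚ[X]} {t : ℕ} (h : P.natDegree = t + 1) {c : ℚ} (hc : c ≠ 0) :
    (P - P.comp (X - C c)).natDegree = t := by
  have hne : P ≠ 0 := ne_zero_of_natDegree_gt (n := 0) (by omega)
  refine natDegree_eq_of_le_of_coeff_ne_zero ?_ ?_
  · have h1 := natDegree_lt_natDegree (p := P - P.comp (X - C c)) (q := P)
    by_cases h0 : P - P.comp (X - C c) = 0
    · simp [h0]
    · have := h1 h0 (degree_sub_comp_lt hne c)
      omega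
  · rw [coeff_sub_comp h c]
    have : P.leadingCoeff ≠ 0 := leadingCoeff_ne_zero.2 hne
    positivity

variable {k : Type u} [Field k] {n : ℕ}

local notation "S'" => MvPolynomial (Fin (n + 1)) k
local notation "𝒜" => CohB1.polyGrading n k

open scoped Classical in
/-- The Hilbert polynomial. -/
def hilb (I : Ideal S') : ℚ[X] := if h : ∃ P, IsHP I P then h.choose else 0

lemma isHP_hilb {I : Ideal S'} (hI : I.IsHomogeneous 𝒜) : IsHP I (hilb I) := by
  rw [hilb, dif_pos (exists_isHP I hI)]
  exact (exists_isHP I hI).choose_spec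

lemma eq_hilb {I : Ideal S'} {P : ℚ[X]} (h : IsHP I P) : P = hilb I := by
  rw [hilb, dif_pos ⟨P, h⟩]
  exact h.unique (⟨P, h⟩ : ∃ P, IsHP I P).choose_spec

lemma degree_hilb_mono {I J : Ideal S'} (hI : I.IsHomogeneous 𝒜) (hJ : J.IsHomogeneous 𝒜) (h : I ≤ J) :
    (hilb J).degree ≤ (hilb I).degree := by
  refine degree_le_of_eventually (isHP_hilb hJ).nonneg ?_
  filter_upwards [isHP_hilb hI, isHP_hilb hJ] with m h1 h2
  rw [← h1, ← h2]
  exact hf_mono h m

/-- Strict monotonicity on primes. -/
lemma degree_hilb_lt {p q : Ideal S'} [p.IsPrime] (hp : p.IsHomogeneous 𝒜) (hq : q.IsHomogeneous 𝒜)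
    (h : p < q) (hne : hilb p ≠ 0) : (hilb q).degree < (hilb p).degree := by
  obtain ⟨e, g, hg, hgq, hgp⟩ := exists_homogeneous_notMem hq h.not_ge
  have hD := eq_hilb ((isHP_hilb hp).sup_span_prime hp hg hgp)
  refine lt_of_le_of_lt ((degree_hilb_mono (sup_span_isHomogeneous hp hg) hq
    (sup_le h.le ((Ideal.span_singleton_le_iff_mem _).2 hgq))).trans ?_) (degree_sub_comp_lt hne (e : ℚ))
  rw [hD]

/-- The multiplicity of `S/I` at a prime. -/
def lenAt (q : Ideal S') [q.IsPrime] (I : Ideal S') : ℕ∞ :=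
  Module.length (Localization.AtPrime q) (LocalizedModule q.primeCompl (S' ⧸ I))

lemma lenAt_eq_zero {q I : Ideal S'} [q.IsPrime] (h : ¬ I ≤ q) : lenAt q I = 0 := by
  obtain ⟨a, ha, haq⟩ := SetLike.not_le_iff_exists.1 h
  have : Subsingleton (LocalizedModule q.primeCompl (S' ⧸ I)) :=
    LocalizedModule.subsingleton_iff.2 fun m => ⟨a, haq, by
      obtain ⟨b, rfl⟩ := Ideal.Quotient.mk_surjective m
      exact Ideal.Quotient.eq_zero_iff_mem.2 (I.mul_mem_right b ha)⟩
  exact Module.length_eq_zero

lemma lenAt_self (q : Ideal S') [q.IsPrime] : lenAt q q = 1 := by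
  rw [lenAt]
  let L := Localization.AtPrime q
  let g : (S' ⧸ q) →ₗ[S'] L ⧸ IsLocalRing.maximalIdeal L :=
    Submodule.liftQ q ((Submodule.mkQ (IsLocalRing.maximalIdeal L)).restrictScalars S' ∘ₗ
      Algebra.linearMap S' L) fun a ha => by
        simp only [LinearMap.mem_ker, LinearMap.comp_apply, LinearMap.restrictScalars_apply,
          Submodule.mkQ_apply, Submodule.Quotient.mk_eq_zero, Algebra.linearMap_apply]
        exact (IsLocalization.AtPrime.to_map_mem_maximal_iff L q a).2 ha
  have : IsLocalizedModule q.primeCompl g := by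
    constructor
    · intro x
      exact (Module.End.isUnit_iff _).2
        (Function.bijective_iff_has_inverse.2 ⟨fun y => (IsLocalization.map_units L x).unit⁻¹.1 • y,
          fun y => by
            simp only [Module.algebraMap_end_apply]
            rw [← algebraMap_smul L (x : S') y, smul_smul, IsUnit.val_inv_mul, one_smul],
          fun y => by
            simp only [Module.algebraMap_end_apply]
            rw [← algebraMap_smul L (x : S'), smul_smul, IsUnit.mul_val_inv, one_smul]⟩)
    · intro y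
      obtain ⟨z, rfl⟩ := Submodule.Quotient.mk_surjective _ y
      obtain ⟨⟨a, s⟩, hz⟩ := IsLocalization.surj q.primeCompl z
      refine ⟨⟨Submodule.Quotient.mk a, s⟩, ?_⟩
      show (s : S') • Submodule.Quotient.mk (p := IsLocalRing.maximalIdeal L) z = Submodule.Quotient.mk (algebraMap S' L a)
      rw [← Submodule.Quotient.mk_smul, ← hz, Algebra.smul_def, mul_comm]
    · intro x y h
      obtain ⟨a, rfl⟩ := Submodule.Quotient.mk_surjective _ x
      obtain ⟨b, rfl⟩ := Submodule.Quotient.mk_surjective _ y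
      refine ⟨1, ?_⟩
      rw [one_smul, one_smul]
      have h' := (Submodule.Quotient.eq _).1 h
      simp only [Algebra.linearMap_apply, ← map_sub] at h'
      exact (Submodule.Quotient.eq q).2 ((IsLocalization.AtPrime.to_map_mem_maximal_iff L q _).1 h')
  have e := IsLocalizedModule.iso q.primeCompl g
  rw [(e.extendScalarsOfIsLocalization q.primeCompl L).length_eq]
  have : IsSimpleModule L (L ⧸ IsLocalRing.maximalIdeal L) :=
    isSimpleModule_iff_isCoatom.2 (Ideal.isMaximal_def.1 (IsLocalRing.maximalIdeal.isMaximal L))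
  exact Module.length_eq_one L _

lemma lenAt_exact {q : Ideal S'} [q.IsPrime] (I : Ideal S') (g : S') :
    lenAt q I = lenAt q (Submodule.colon I {g}) + lenAt q (I ⊔ Ideal.span {g}) := by
  let α : (S' ⧸ Submodule.colon I {g}) →ₗ[S'] S' ⧸ I :=
    Submodule.liftQ _ (Submodule.mkQ I ∘ₗ LinearMap.mulRight S' g) fun a ha => by
      simp only [LinearMap.mem_ker, LinearMap.comp_apply, Submodule.mkQ_apply,
        Submodule.Quotient.mk_eq_zero, LinearMap.mulRight_apply]
      exact Submodule.mem_colon_singleton.1 ha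
  let β : (S' ⧸ I) →ₗ[S'] S' ⧸ (I ⊔ Ideal.span {g}) := Submodule.factor le_sup_left
  have hα : Function.Injective α := by
    refine (injective_iff_map_eq_zero α).2 fun x hx => ?_
    obtain ⟨a, rfl⟩ := Submodule.Quotient.mk_surjective _ x
    have h1 : a * g ∈ I := (Submodule.Quotient.mk_eq_zero I).1 hx
    exact (Submodule.Quotient.mk_eq_zero _).2 (Submodule.mem_colon_singleton.2 h1)
  have hβ : Function.Surjective β := Submodule.factor_surjective _
  have hex : Function.Exact α β := by
    intro x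
    obtain ⟨a, rfl⟩ := Submodule.Quotient.mk_surjective _ x
    constructor
    · intro hx
      obtain ⟨i, hi, y, hy, hiy⟩ := Submodule.mem_sup.1 ((Submodule.Quotient.mk_eq_zero _).1 hx)
      obtain ⟨c, rfl⟩ := Ideal.mem_span_singleton'.1 hy
      refine ⟨Submodule.Quotient.mk c, ?_⟩
      show Submodule.Quotient.mk (c * g) = Submodule.Quotient.mk a
      refine (Submodule.Quotient.eq I).2 ?_
      rw [show a = i + c * g from hiy.symm, sub_add_cancel_right]
      exact I.neg_mem hi
    · rintro ⟨y, hy⟩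
      rw [← hy]
      obtain ⟨c, rfl⟩ := Submodule.Quotient.mk_surjective _ y
      exact (Submodule.Quotient.mk_eq_zero _).2
        (Ideal.mem_sup_right (Ideal.mul_mem_left _ _ (Ideal.mem_span_singleton_self g)))
  exact Module.length_eq_add_of_exact (LocalizedModule.map q.primeCompl α) (LocalizedModule.map q.primeCompl β)
    (LocalizedModule.map_injective q.primeCompl α hα) (LocalizedModule.map_surjective q.primeCompl β hβ)
    (LocalizedModule.map_exact q.primeCompl α β hex)

open scoped Classical in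
/-- The multiplicity at a prime, extended by zero. -/
def mult (q I : Ideal S') : ℕ := if h : q.IsPrime then (@lenAt k _ n q h I).toNat else 0

lemma mult_eq (q I : Ideal S') [hq : q.IsPrime] : mult q I = (lenAt q I).toNat := by
  rw [mult, dif_pos hq]

/-- The leading coefficient is additive over the components of maximal dimension. -/
theorem coeff_eq_sum (t : ℕ) (I : Ideal S') (hI : I.IsHomogeneous 𝒜) :
    ∀ (s : Finset (Ideal S')), (hilb I).degree ≤ (t : WithBot ℕ) →
      (∀ q ∈ s, q.IsPrime ∧ q.IsHomogeneous 𝒜 ∧ (hilb q).degree = (t : WithBot ℕ)) →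
      (∀ q : Ideal S', q.IsPrime → q.IsHomogeneous 𝒜 → I ≤ q → (hilb q).degree = (t : WithBot ℕ) → q ∈ s) →
      (∀ q ∈ s, ∀ hq : q.IsPrime, @lenAt k _ n q hq I ≠ ⊤) ∧
        (hilb I).coeff t = ∑ q ∈ s, (mult q I : ℚ) * (hilb q).coeff t := by
  classical
  induction I using WellFoundedGT.induction with
  | _ I ih =>
  intro s hdeg hs hall
  -- the prime case
  have hprime : ∀ p : Ideal S', p.IsHomogeneous 𝒜 → I ≤ p → p.IsPrime →
      (∀ q ∈ s, ∀ hq : q.IsPrime, @lenAt k _ n q hq p ≠ ⊤) ∧
        (hilb p).coeff t = ∑ q ∈ s, (mult q p : ℚ) * (hilb q).coeff t := by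
    intro p hp hle hpp
    have hpd : (hilb p).degree ≤ (t : WithBot ℕ) := (degree_hilb_mono hI hp hle).trans hdeg
    have hkey : ∀ q ∈ s, q ≠ p → ¬ p ≤ q := by
      intro q hq hne hpq
      obtain ⟨hqp, hqh, hqd⟩ := hs q hq
      have hlt : p < q := lt_of_le_of_ne hpq (Ne.symm hne)
      have hne0 : hilb p ≠ 0 := fun h => by
        have := degree_hilb_mono hp hqh hpq
        rw [hqd, h, degree_zero, le_bot_iff] at this
        exact WithBot.coe_ne_bot this
      exact absurd (hqd ▸ degree_hilb_lt hp hqh hlt hne0) (not_lt.2 hpd)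
    refine ⟨fun q hq hqp => ?_, ?_⟩
    · rcases eq_or_ne q p with rfl | hne
      · rw [lenAt_self]; exact ENat.one_ne_top
      · rw [lenAt_eq_zero (hkey q hq hne)]; exact ENat.zero_ne_top
    · by_cases hmem : p ∈ s
      · rw [Finset.sum_eq_single p]
        · rw [mult_eq, lenAt_self]; simp
        · intro q hq hne
          have := (hs q hq).1
          rw [mult_eq, lenAt_eq_zero (hkey q hq hne)]; simp
        · exact fun h => absurd hmem h
      · have hlt : (hilb p).degree < (t : WithBot ℕ) :=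
          lt_of_le_of_ne hpd fun h => hmem (hall p hpp hp hle h)
        rw [coeff_eq_zero_of_degree_lt hlt]
        refine (Finset.sum_eq_zero fun q hq => ?_).symm
        have := (hs q hq).1
        rw [mult_eq, lenAt_eq_zero (hkey q hq fun h => hmem (h ▸ hq))]; simp
  by_cases htop : I = ⊤
  · subst htop
    have h0 : hilb (⊤ : Ideal S') = 0 :=
      (eq_hilb (P := 0) (Eventually.of_forall fun m => by simp [hf_top])).symm
    have hl : ∀ q ∈ s, ∀ hq : q.IsPrime, @lenAt k _ n q hq ⊤ = 0 := fun q _ hq =>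
      lenAt_eq_zero fun h => hq.ne_top (top_le_iff.1 h)
    refine ⟨fun q hq hqp => by rw [hl q hq hqp]; exact ENat.zero_ne_top, ?_⟩
    rw [h0, coeff_zero]
    refine (Finset.sum_eq_zero fun q hq => ?_).symm
    have := (hs q hq).1
    rw [mult_eq, hl q hq this]; simp
  by_cases hIp : I.IsPrime
  · exact hprime I hI le_rfl hIp
  obtain ⟨e, g, hg, hgI, hcp⟩ := exists_prime_colon hI htop
  have hch := colon_isHomogeneous hI hg
  have hcle : I ≤ Submodule.colon I {g} := fun a ha =>
    Submodule.mem_colon_singleton.2 (I.mul_mem_right g ha)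
  have hJh := sup_span_isHomogeneous hI hg
  obtain ⟨hfin1, hsum1⟩ := hprime _ hch hcle hcp
  obtain ⟨hfin2, hsum2⟩ := ih (I ⊔ Ideal.span {g}) (Submodule.lt_sup_iff_notMem.2 hgI) hJh s
    ((degree_hilb_mono hI hJh le_sup_left).trans hdeg) hs
    (fun q hq hqh hle hd => hall q hq hqh (le_sup_left.trans hle) hd)
  have hP : hilb I = hilb (I ⊔ Ideal.span {g}) + (hilb (Submodule.colon I {g})).comp (X - C (e : ℚ)) := by
    obtain ⟨N, hN⟩ := eventually_atTop.1 ((isHP_hilb hch).and (isHP_hilb hJh))
    refine (eq_hilb (eventually_atTop.2 ⟨N + e, fun m hm => ?_⟩)).symm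
    have h1 := hf_sup_span hI hg (fun h => hgI (h ▸ I.zero_mem)) (show e ≤ m by omega)
    rw [(hN (m - e) (by omega)).1, (hN m (by omega)).2] at h1
    simp [Polynomial.eval_comp, Nat.cast_sub (by omega : e ≤ m)] at h1 ⊢
    linarith
  refine ⟨fun q hq hqp => ?_, ?_⟩
  · rw [lenAt_exact I g]
    simp [ENat.add_eq_top, hfin1 q hq hqp, hfin2 q hq hqp]
  · rw [hP, coeff_add, coeff_comp_shift ((degree_hilb_mono hI hch hcle).trans hdeg), hsum1, hsum2,
      ← Finset.sum_add_distrib]
    refine Finset.sum_congr rfl fun q hq => ?_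
    have := (hs q hq).1
    rw [mult_eq, mult_eq, mult_eq, lenAt_exact (q := q) I g,
      ENat.toNat_add (hfin1 q hq this) (hfin2 q hq this), Nat.cast_add]
    ring

/-- The Hilbert polynomial of the irrelevant prime, and only it, vanishes. -/
lemma idealOfVars_le_of_hilb_eq_zero {p : Ideal S'} [p.IsPrime] (hp : p.IsHomogeneous 𝒜) (h : hilb p = 0) :
    MvPolynomial.idealOfVars (Fin (n + 1)) k ≤ p := by
  refine Ideal.span_le.2 ?_
  rintro _ ⟨i, rfl⟩
  obtain ⟨N, hN⟩ := eventually_atTop.1 (isHP_hilb hp)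
  have hle : 𝒜 (N + 1) ≤ Submodule.restrictScalars k p := by
    have h0 := hN (N + 1) (by omega)
    rw [h, Polynomial.eval_zero, hf, sub_eq_zero, Nat.cast_inj] at h0
    exact inf_eq_right.1 (Submodule.eq_of_le_of_finrank_eq inf_le_right h0.symm)
  have : (MvPolynomial.X i : S') ^ (N + 1) ∈ 𝒜 (N + 1) := by
    rw [MvPolynomial.mem_homogeneousSubmodule]
    simpa using (MvPolynomial.isHomogeneous_X k i).pow (N + 1)
  exact (inferInstance : p.IsPrime).mem_of_pow_mem _ (hle this)

end GradedHilbLib

end
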