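import Groth.Agent.GradedHilbLib.Degree
import Groth.Agent.CommAlgDim.HilbertSamuel
import Groth.Agent.SMTLib.GradedDim
import Mathlib.RingTheory.Localization.AtPrime.Basic
import Mathlib.RingTheory.Ideal.Height

/-! # Dimension of a homogeneous quotient of a polynomial ring by its Hilbert polynomial -/

set_option autoImplicit false
universe u

open Filter Polynomial

noncomputable section

namespace GradedHilbLib

variable {k : Type u} [Field k] {n : ℕ}

local notation "S'" => MvPolynomial (Fin (n + 1)) k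
local notation "𝒜" => CohB1.polyGrading n k
local notation "𝔪" => MvPolynomial.idealOfVars (Fin (n + 1)) k

lemma decompose_eq (y : S') (j : ℕ) :
    (DirectSum.decompose 𝒜 y j : S') = MvPolynomial.homogeneousComponent j y :=
  MvPolynomial.decomposition.decompose'_apply y j

lemma scalars (a : S') (ha : a ∈ 𝒜 0) : ∃ c : k, algebraMap k S' c = a :=
  ⟨_, ((MvPolynomial.totalDegree_eq_zero_iff_eq_C).1 (Nat.le_zero.1
    (((MvPolynomial.mem_homogeneousSubmodule 0 a).1 ha).totalDegree_le))).symm⟩

lemma irrelevant_eq : (HomogeneousIdeal.irrelevant 𝒜).toIdeal = 𝔪 := by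
  classical
  refine le_antisymm (fun a ha => ?_) (Ideal.span_le.2 ?_)
  · rw [← DirectSum.sum_support_decompose 𝒜 a]
    refine Ideal.sum_mem _ fun i _ => ?_
    rcases Nat.eq_zero_or_pos i with rfl | hi
    · rw [HomogeneousIdeal.mem_iff, HomogeneousIdeal.mem_irrelevant_iff, GradedRing.proj_apply] at ha
      rw [ha]; exact zero_mem _
    · exact piece_le_idealOfVars i hi (SetLike.coe_mem _)
  · rintro _ ⟨i, rfl⟩
    have : (MvPolynomial.X i : S') ∈ 𝒜 1 :=
      (MvPolynomial.mem_homogeneousSubmodule _ _).2 (MvPolynomial.isHomogeneous_X k i)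
    rw [SetLike.mem_coe, HomogeneousIdeal.mem_iff, HomogeneousIdeal.mem_irrelevant_iff, GradedRing.proj_apply,
      DirectSum.decompose_of_mem_ne 𝒜 this one_ne_zero]

instance idealOfVars_isMaximal : (𝔪).IsMaximal :=
  irrelevant_eq (k := k) (n := n) ▸ SMTLib.irrelevant_isMaximal 𝒜 scalars

lemma exists_sub_mem (p : S') : ∃ c : k, p - MvPolynomial.C c ∈ 𝔪 := by
  refine ⟨MvPolynomial.constantCoeff p, ?_⟩
  rw [← pow_one (𝔪 : Ideal S'), MvPolynomial.mem_pow_idealOfVars_iff']
  intro x hx
  have : x = 0 := (Finsupp.degree_eq_zero_iff x).1 (by omega)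
  subst this
  simp [MvPolynomial.constantCoeff_eq]

/-- A module killed by the irrelevant ideal has length its `k`-dimension. -/
lemma length_eq_finrank_of_killed {N : Type u} [AddCommGroup N] [Module S' N] [Module k N]
    [IsScalarTower k S' N] [Module.Finite k N] (h : ∀ p ∈ (𝔪 : Ideal S'), ∀ x : N, p • x = 0) :
    Module.length S' N = Module.finrank k N := by
  rw [← Module.length_eq_finrank]
  apply WithBot.coe_injective
  rw [Module.coe_length, Module.coe_length]
  let e : Submodule S' N ≃o Submodule k N :=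
    { toFun := fun W => W.restrictScalars k
      invFun := fun W =>
        { W.toAddSubmonoid with
          smul_mem' := fun p x hx => by
            obtain ⟨c, hc⟩ := exists_sub_mem p
            have h' := h _ hc x
            rw [sub_smul, sub_eq_zero, ← MvPolynomial.algebraMap_eq, algebraMap_smul] at h'
            exact h'.symm ▸ W.smul_mem c hx }
      left_inv := fun W => rfl
      right_inv := fun W => rfl
      map_rel_iff' := Iff.rfl }
  exact Order.krullDim_eq_of_orderIso e

/-- The length of `S/(I + 𝔪^j)`. -/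
lemma length_quot_pow {I : Ideal S'} (hI : I.IsHomogeneous 𝒜) : ∀ j : ℕ,
    ∃ L : ℕ, Module.length S' (S' ⧸ (I ⊔ 𝔪 ^ j)) = (L : ℕ∞) ∧ (L : ℚ) = ∑ i ∈ Finset.range j, hf I i
  | 0 => ⟨0, by
      rw [pow_zero, Ideal.one_eq_top, sup_top_eq]
      exact Module.length_eq_zero, by simp⟩
  | j + 1 => by
    obtain ⟨L, hL, hL'⟩ := length_quot_pow hI j
    have hle : I ⊔ 𝔪 ^ (j + 1) ≤ I ⊔ 𝔪 ^ j := sup_le_sup_left (Ideal.pow_le_pow_right (by omega)) I
    let π := Submodule.factor hle
    let N := LinearMap.ker π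
    have hadd := Module.length_eq_add_of_exact N.subtype π N.injective_subtype
      (Submodule.factor_surjective hle) (LinearMap.exact_subtype_ker_map π)
    have hpiece : ∀ a ∈ 𝒜 j, a ∈ I ⊔ 𝔪 ^ j := fun a ha => Ideal.mem_sup_right (by
      rw [MvPolynomial.mem_pow_idealOfVars_iff']
      intro x hx
      exact ((MvPolynomial.mem_homogeneousSubmodule j a).1 ha).coeff_eq_zero (by omega))
    let ψ : 𝒜 j →ₗ[k] N :=
      { toFun := fun a => ⟨Submodule.Quotient.mk a.1, by
          rw [LinearMap.mem_ker]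
          exact (Submodule.Quotient.mk_eq_zero _).2 (hpiece a.1 a.2)⟩
        map_add' := fun a b => rfl
        map_smul' := fun c a => rfl }
    have hψ : Function.Surjective ψ := by
      rintro ⟨x, hx⟩
      obtain ⟨b, rfl⟩ := Submodule.Quotient.mk_surjective _ x
      obtain ⟨i, hi, y, hy, rfl⟩ := Submodule.mem_sup.1 ((Submodule.Quotient.mk_eq_zero _).1 (LinearMap.mem_ker.1 hx))
      refine ⟨⟨_, SetLike.coe_mem (DirectSum.decompose 𝒜 y j)⟩, Subtype.ext ((Submodule.Quotient.eq _).2 ?_)⟩
      rw [show (DirectSum.decompose 𝒜 y j : S') - (i + y) = -i + ((DirectSum.decompose 𝒜 y j : S') - y) by ring]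
      refine Submodule.add_mem_sup (I.neg_mem hi) ?_
      rw [MvPolynomial.mem_pow_idealOfVars_iff'] at hy ⊢
      intro x hx
      rw [MvPolynomial.coeff_sub, decompose_eq, MvPolynomial.coeff_homogeneousComponent]
      split_ifs with hd
      · exact sub_self _
      · rw [hy x (by omega), sub_zero]
    have hker : (LinearMap.ker ψ).map (𝒜 j).subtype = Submodule.restrictScalars k I ⊓ 𝒜 j := by
      ext a
      constructor
      · rintro ⟨⟨a, ha⟩, h, rfl⟩
        obtain ⟨i, hi, y, hy, hiy⟩ :=
          Submodule.mem_sup.1 ((Submodule.Quotient.mk_eq_zero _).1 (congrArg Subtype.val (LinearMap.mem_ker.1 h)))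
        refine ⟨?_, ha⟩
        have hyz : (DirectSum.decompose 𝒜 y j : S') = 0 := by
          rw [MvPolynomial.mem_pow_idealOfVars_iff'] at hy
          ext x
          rw [decompose_eq, MvPolynomial.coeff_homogeneousComponent, MvPolynomial.coeff_zero]
          split_ifs with hd
          · exact hy x (by omega)
          · rfl
        show a ∈ I
        rw [← DirectSum.decompose_of_mem_same 𝒜 ha, show a = i + y from hiy.symm, DirectSum.decompose_add, DirectSum.add_apply,
          Submodule.coe_add, hyz, add_zero]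
        exact hI j hi
      · rintro ⟨haI, ha⟩
        exact ⟨⟨a, ha⟩, LinearMap.mem_ker.2 (Subtype.ext ((Submodule.Quotient.mk_eq_zero _).2
          (Ideal.mem_sup_left haI))), rfl⟩
    have : Module.Finite k N := Module.Finite.of_surjective ψ hψ
    have hN : Module.length S' N = Module.finrank k N := length_eq_finrank_of_killed fun p hp x => by
      obtain ⟨x, hx⟩ := x
      obtain ⟨b, rfl⟩ := Submodule.Quotient.mk_surjective _ x
      obtain ⟨i, hi, y, hy, rfl⟩ := Submodule.mem_sup.1 ((Submodule.Quotient.mk_eq_zero _).1 (LinearMap.mem_ker.1 hx))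
      refine Subtype.ext ((Submodule.Quotient.mk_eq_zero _).2 ?_)
      show p * (i + y) ∈ _
      rw [mul_add]
      exact Submodule.add_mem_sup (I.mul_mem_left p hi) (by rw [pow_succ']; exact Ideal.mul_mem_mul hp hy)
    have hfin := LinearMap.finrank_range_add_finrank_ker ψ
    rw [LinearMap.range_eq_top.2 hψ, finrank_top,
      (Submodule.equivMapOfInjective _ (𝒜 j).injective_subtype (LinearMap.ker ψ)).finrank_eq, hker] at hfin
    refine ⟨Module.finrank k N + L, by rw [hadd, hN, hL, Nat.cast_add], ?_⟩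
    rw [Finset.sum_range_succ, ← hL', hf, ← hfin]
    push_cast
    ring

lemma ringKrullDim_quotient_aux {I : Ideal S'} (hI : I.IsHomogeneous 𝒜) (hne : I ≠ ⊤)
    [((𝔪 : Ideal S').map (Ideal.Quotient.mk I)).IsMaximal]
    (L : Type u) [CommRing L] [IsLocalRing L] [IsNoetherianRing L] [Algebra (S' ⧸ I) L] [Algebra S' L]
    [IsScalarTower S' (S' ⧸ I) L]
    [IsLocalization.AtPrime L ((𝔪 : Ideal S').map (Ideal.Quotient.mk I))] :
    (hilb I = 0 → ringKrullDim (S' ⧸ I) = 0) ∧
    (hilb I ≠ 0 → ringKrullDim (S' ⧸ I) = ((hilb I).natDegree : WithBot ℕ∞) + 1) := by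
  set mI := (𝔪 : Ideal S').map (Ideal.Quotient.mk I) with hmI
  have hchi : ∀ j, (CommAlgDim.chi (R := L) (IsLocalRing.maximalIdeal L) L j : ℚ) = ∑ i ∈ Finset.range j, hf I i := by
    intro j
    obtain ⟨N, hN, hN'⟩ := length_quot_pow hI j
    rw [← hN', Nat.cast_inj, CommAlgDim.chi, CommAlgDim.len,
      smul_eq_mul, Ideal.mul_top]
    let e := IsLocalization.AtPrime.equivQuotMaximalIdealPow mI L j
    let Q := L ⧸ IsLocalRing.maximalIdeal L ^ j
    have hφ : ∀ s : S', algebraMap S' Q s = e (Ideal.Quotient.mk _ (Ideal.Quotient.mk I s)) := fun s => by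
      show Ideal.Quotient.mk _ (algebraMap S' L s) = _
      rw [IsScalarTower.algebraMap_apply S' (S' ⧸ I) L]
      rfl
    have hsurj : Function.Surjective (algebraMap S' Q) := fun y => by
      obtain ⟨z, rfl⟩ := e.surjective y
      obtain ⟨w, rfl⟩ := Ideal.Quotient.mk_surjective z
      obtain ⟨s, rfl⟩ := Ideal.Quotient.mk_surjective w
      exact ⟨s, hφ s⟩
    have hker : RingHom.ker (algebraMap S' Q) = I ⊔ 𝔪 ^ j := by
      ext s
      rw [RingHom.mem_ker, hφ, map_eq_zero_iff _ e.injective, Ideal.Quotient.eq_zero_iff_mem, hmI,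
        ← Ideal.map_pow, ← Ideal.mem_comap, Ideal.comap_map_of_surjective _ Ideal.Quotient.mk_surjective,
        ← RingHom.ker_eq_comap_bot, Ideal.mk_ker, sup_comm]
    have e' : (S' ⧸ (I ⊔ 𝔪 ^ j)) ≃ₗ[S'] Q :=
      (Submodule.quotEquivOfEq _ _ hker.symm).trans
        (Ideal.quotientKerAlgEquivOfSurjective (f := Algebra.ofId S' Q) hsurj).toLinearEquiv
    have h1 : Module.length L Q = Module.length Q Q :=
      Module.length_eq_of_surjective (R := Q) Ideal.Quotient.mk_surjective
    have h2 : Module.length S' Q = Module.length Q Q := Module.length_eq_of_surjective (R := Q) hsurj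
    rw [show Module.length L Q = Module.length S' Q from h1.trans h2.symm, ← e'.length_eq, hN, ENat.toNat_coe]
  have hdiff : ∀ᶠ j : ℕ in atTop, (fun j => (CommAlgDim.chi (R := L) (IsLocalRing.maximalIdeal L) L j : ℚ)) (j + 1) -
      (fun j => (CommAlgDim.chi (R := L) (IsLocalRing.maximalIdeal L) L j : ℚ)) j = (hilb I).eval (j : ℚ) := by
    filter_upwards [isHP_hilb hI] with j hj
    simp only [hchi, Finset.sum_range_succ]
    linarith
  obtain ⟨P, hPdeg, hP0, hP⟩ := CommAlgDim.eventually_of_diff
    (h := fun j => (CommAlgDim.chi (R := L) (IsLocalRing.maximalIdeal L) L j : ℚ))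
    le_rfl hdiff
  have hdim : ringKrullDim (S' ⧸ I) = (P.natDegree : WithBot ℕ∞) := by
    have hP' : CommAlgDim.IsHSPoly (Ring.jacobson L) L P := by
      rw [IsLocalRing.ringJacobson_eq_maximalIdeal]; exact hP
    rw [CommAlgDim.natDegree_eq_supportDim (R := L) (M := L) hP', Module.supportDim_self_eq_ringKrullDim,
      IsLocalization.AtPrime.ringKrullDim_eq_height mI L,
      SMTLib.ringKrullDim_quotient_eq_height 𝒜 scalars hI hne, irrelevant_eq]
  refine ⟨fun h => by rw [hdim, hP0 h]; rfl, fun h => ?_⟩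
  have hΔ : hilb I = P.comp (X + 1) - P := by
    obtain ⟨N, hN⟩ := eventually_atTop.1 (hdiff.and hP)
    refine eq_of_infinite_eval_eq _ _ (Set.Infinite.mono ?_
      ((Set.Ici_infinite N).image (f := fun m : ℕ => (m : ℚ)) Nat.cast_injective.injOn))
    rintro _ ⟨m, hm, rfl⟩
    have h1 := (hN m hm).1
    beta_reduce at h1
    rw [(hN m hm).2, (hN (m + 1) (Nat.le_succ_of_le hm)).2] at h1
    simpa using h1.symm
  have hPne : P ≠ 0 := fun h0 => h (by simp [hΔ, h0])
  have hlt : (hilb I).degree < P.degree := by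
    have h1 := degree_sub_comp_lt hPne (-1)
    rwa [show X - C (-1 : ℚ) = X + 1 by simp, ← degree_neg, neg_sub, ← hΔ] at h1
  have := natDegree_lt_natDegree h hlt
  rw [hdim, show P.natDegree = (hilb I).natDegree + 1 by omega]
  simp

/-- Dimension from the Hilbert polynomial. -/
theorem ringKrullDim_quotient {I : Ideal S'} (hI : I.IsHomogeneous 𝒜) (hne : I ≠ ⊤) :
    (hilb I = 0 → ringKrullDim (S' ⧸ I) = 0) ∧
    (hilb I ≠ 0 → ringKrullDim (S' ⧸ I) = ((hilb I).natDegree : WithBot ℕ∞) + 1) := by
  have hIm : I ≤ 𝔪 := irrelevant_eq (k := k) (n := n) ▸ SMTLib.le_irrelevant_of_isHomogeneous 𝒜 scalars hI hne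
  have : ((𝔪 : Ideal S').map (Ideal.Quotient.mk I)).IsMaximal :=
    Ideal.IsMaximal.map_of_surjective_of_ker_le Ideal.Quotient.mk_surjective (by rwa [Ideal.mk_ker])
  exact ringKrullDim_quotient_aux hI hne (Localization.AtPrime ((𝔪 : Ideal S').map (Ideal.Quotient.mk I)))

end GradedHilbLib

end
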