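import Groth.Prelude.Def_CohB1
import Groth.Agent.SegreLib.GradedSOP
import Groth.Agent.CommAlgDim.Poly
import Mathlib.RingTheory.MvPolynomial.Homogeneous
import Mathlib.RingTheory.MvPolynomial.Ideal
import Mathlib.RingTheory.GradedAlgebra.Radical
import Mathlib.LinearAlgebra.FiniteDimensional.Lemmas

/-! # Hilbert functions and Hilbert polynomials of homogeneous ideals of a polynomial ring -/

set_option autoImplicit false
universe u

open Filter

noncomputable section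

namespace GradedHilbLib

variable (k : Type u) [Field k] (n : ℕ)

/-- The polynomial ring. -/
abbrev S : Type u := MvPolynomial (Fin (n + 1)) k

local notation "S'" => MvPolynomial (Fin (n + 1)) k
local notation "𝒜" => CohB1.polyGrading n k

instance piece_finite (m : ℕ) : Module.Finite k (𝒜 m) :=
  Module.Finite.iff_fg.2 (MvPolynomial.homogeneousSubmodule_fg (Fin (n + 1)) k m)

variable {k n}

/-- The Hilbert function of `S/I`. -/
def hf (I : Ideal S') (m : ℕ) : ℚ :=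
  (Module.finrank k (𝒜 m) : ℚ) - Module.finrank k ↥(Submodule.restrictScalars k I ⊓ 𝒜 m)

instance inf_finite (I : Ideal S') (m : ℕ) :
    Module.Finite k ↥(Submodule.restrictScalars k I ⊓ 𝒜 m) :=
  Submodule.finiteDimensional_of_le inf_le_right

lemma hf_nonneg (I : Ideal S') (m : ℕ) : 0 ≤ hf I m := by
  rw [hf, sub_nonneg]
  exact_mod_cast Submodule.finrank_mono inf_le_right

lemma hf_mono {I J : Ideal S'} (h : I ≤ J) (m : ℕ) : hf J m ≤ hf I m := by
  rw [hf, hf, sub_le_sub_iff_left]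
  exact_mod_cast Submodule.finrank_mono (inf_le_inf_right (𝒜 m)
    (show Submodule.restrictScalars k I ≤ Submodule.restrictScalars k J from h))

lemma hf_eq_zero {I : Ideal S'} {m : ℕ} (h : 𝒜 m ≤ Submodule.restrictScalars k I) : hf I m = 0 := by
  rw [hf, inf_eq_right.2 h, sub_self]

/-- Multiplication by a homogeneous element. -/
lemma hf_sup_span {I : Ideal S'} (hI : I.IsHomogeneous 𝒜) {g : S'} {e : ℕ} (hg : g ∈ 𝒜 e)
    (hg0 : g ≠ 0) {m : ℕ} (hm : e ≤ m) :
    hf (I ⊔ Ideal.span {g}) m = hf I m - hf (Submodule.colon I {g}) (m - e) := by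
  let φ : S' →ₗ[k] S' := LinearMap.mulLeft k g
  have hφ : Function.Injective φ := mul_right_injective₀ hg0
  set T := (𝒜 (m - e)).map φ
  have hT : T ≤ 𝒜 m := by
    rintro _ ⟨a, ha, rfl⟩
    have := SetLike.mul_mem_graded hg ha
    rwa [Nat.add_sub_cancel' hm] at this
  have hsup : Submodule.restrictScalars k (I ⊔ Ideal.span {g}) ⊓ 𝒜 m =
      (Submodule.restrictScalars k I ⊓ 𝒜 m) ⊔ T := by
    refine le_antisymm ?_ (sup_le (inf_le_inf_right _ fun x hx => Ideal.mem_sup_left hx) (le_inf ?_ hT))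
    · rintro x ⟨hx, hxm⟩
      obtain ⟨i, hi, y, hy, rfl⟩ := Submodule.mem_sup.1 hx
      obtain ⟨b, rfl⟩ := Ideal.mem_span_singleton'.1 hy
      rw [← DirectSum.decompose_of_mem_same 𝒜 hxm, DirectSum.decompose_add, DirectSum.add_apply,
        Submodule.coe_add, DirectSum.coe_decompose_mul_of_right_mem 𝒜 m hg, if_pos hm]
      exact Submodule.add_mem_sup ⟨hI m hi, SetLike.coe_mem _⟩
        ⟨_, SetLike.coe_mem (DirectSum.decompose 𝒜 b (m - e)), mul_comm g _⟩
    · rintro _ ⟨a, -, rfl⟩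
      exact Ideal.mem_sup_right (Ideal.mem_span_singleton'.2 ⟨a, mul_comm a g⟩)
  have hinf : (Submodule.restrictScalars k I ⊓ 𝒜 m) ⊓ T =
      (Submodule.restrictScalars k (Submodule.colon I {g}) ⊓ 𝒜 (m - e)).map φ := by
    ext x
    constructor
    · rintro ⟨⟨hx, -⟩, a, ha, rfl⟩
      refine ⟨a, ⟨?_, ha⟩, rfl⟩
      refine Submodule.mem_colon_singleton.2 ?_
      rw [smul_eq_mul, mul_comm]
      exact hx
    · rintro ⟨a, ⟨ha, ham⟩, rfl⟩ 
      have h1 : a • g ∈ I := Submodule.mem_colon_singleton.1 ha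
      rw [smul_eq_mul, mul_comm] at h1
      exact ⟨⟨h1, hT ⟨a, ham, rfl⟩⟩, a, ham, rfl⟩
  have : Module.Finite k T := Submodule.finiteDimensional_of_le hT
  have hdim := Submodule.finrank_sup_add_finrank_inf_eq (Submodule.restrictScalars k I ⊓ 𝒜 m) T
  rw [← hsup, hinf, ← (Submodule.equivMapOfInjective φ hφ _).finrank_eq,
    ← (Submodule.equivMapOfInjective φ hφ _).finrank_eq] at hdim
  have hdim' := congrArg (fun x : ℕ => (x : ℚ)) hdim
  simp only [Nat.cast_add] at hdim'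
  simp only [hf]
  linarith

lemma colon_isHomogeneous {I : Ideal S'} (hI : I.IsHomogeneous 𝒜) {g : S'} {e : ℕ} (hg : g ∈ 𝒜 e) :
    (Submodule.colon I {g}).IsHomogeneous 𝒜 := by
  intro i a ha
  have h1 : a • g ∈ I := Submodule.mem_colon_singleton.1 ha
  rw [smul_eq_mul] at h1
  refine Submodule.mem_colon_singleton.2 ?_
  have := hI (i + e) h1
  rwa [DirectSum.coe_decompose_mul_add_of_right_mem 𝒜 hg] at this

lemma sup_span_isHomogeneous {I : Ideal S'} (hI : I.IsHomogeneous 𝒜) {g : S'} {e : ℕ} (hg : g ∈ 𝒜 e) :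
    (I ⊔ Ideal.span {g}).IsHomogeneous 𝒜 :=
  hI.sup (Ideal.homogeneous_span _ _ fun y hy => ⟨e, Set.mem_singleton_iff.1 hy ▸ hg⟩)

lemma hf_sup_span_prime {p : Ideal S'} [p.IsPrime] (hp : p.IsHomogeneous 𝒜) {g : S'} {e : ℕ}
    (hg : g ∈ 𝒜 e) (hgp : g ∉ p) {m : ℕ} (hm : e ≤ m) :
    hf (p ⊔ Ideal.span {g}) m = hf p m - hf p (m - e) := by
  rw [hf_sup_span hp hg (fun h => hgp (h ▸ p.zero_mem)) hm]
  congr 2
  ext a
  rw [Submodule.mem_colon_singleton, smul_eq_mul]
  exact ⟨fun h => ((inferInstance : p.IsPrime).mem_or_mem h).resolve_right hgp, p.mul_mem_right g⟩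

lemma hf_top (m : ℕ) : hf (⊤ : Ideal S') m = 0 := hf_eq_zero (by simp)

lemma exists_homogeneous_notMem {p q : Ideal S'} (hq : q.IsHomogeneous 𝒜) (h : ¬ q ≤ p) :
    ∃ (e : ℕ) (g : S'), g ∈ 𝒜 e ∧ g ∈ q ∧ g ∉ p := by
  classical
  obtain ⟨a, ha, hap⟩ := SetLike.not_le_iff_exists.1 h
  rw [← DirectSum.sum_support_decompose 𝒜 a] at hap
  by_contra! hcon
  exact hap (Ideal.sum_mem _ fun i _ => hcon i _ (SetLike.coe_mem _) (hq i ha))

/-- A nonprime homogeneous ideal splits off a homogeneous prime. -/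
lemma exists_prime_colon {I : Ideal S'} (hI : I.IsHomogeneous 𝒜) (hne : I ≠ ⊤) :
    ∃ (e : ℕ) (g : S'), g ∈ 𝒜 e ∧ g ∉ I ∧ (Submodule.colon I {g}).IsPrime := by
  obtain ⟨e₀, g₀, hg₀, -, hg₀I⟩ := exists_homogeneous_notMem (p := I)
    (fun i r _ => Submodule.mem_top : (⊤ : Ideal S').IsHomogeneous 𝒜) (fun h => hne (top_le_iff.1 h))
  let C : Set (Ideal S') := {J | ∃ (e : ℕ) (g : S'), g ∈ 𝒜 e ∧ g ∉ I ∧ J = Submodule.colon I {g}}
  obtain ⟨J, ⟨e, g, hg, hgI, rfl⟩, hmax⟩ := (wellFounded_gt (α := Ideal S')).has_min C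
    ⟨_, e₀, g₀, hg₀, hg₀I, rfl⟩
  refine ⟨e, g, hg, hgI, (colon_isHomogeneous hI hg).isPrime_of_homogeneous_mem_or_mem ?_ ?_⟩
  · intro h
    have := Submodule.mem_colon_singleton.1 (h ▸ Submodule.mem_top : (1 : S') ∈ _)
    rw [one_smul] at this
    exact hgI this
  · rintro x y - ⟨j, hy⟩ hxy
    by_contra! hcon
    have hxy' : x * y * g ∈ I := Submodule.mem_colon_singleton.1 hxy
    have hyg : y * g ∉ I := fun h => hcon.2 (Submodule.mem_colon_singleton.2 h)
    refine hmax _ ⟨j + e, y * g, SetLike.mul_mem_graded hy hg, hyg, rfl⟩ (lt_of_le_of_ne ?_ fun h => ?_)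
    · intro a ha
      have h1 : a * g ∈ I := Submodule.mem_colon_singleton.1 ha
      refine Submodule.mem_colon_singleton.2 ?_
      rw [smul_eq_mul, show a * (y * g) = y * (a * g) by ring]
      exact Ideal.mul_mem_left _ _ h1
    · refine hcon.1 (h ▸ Submodule.mem_colon_singleton.2 ?_)
      rwa [smul_eq_mul, ← mul_assoc]

lemma piece_le_idealOfVars (m : ℕ) (hm : 0 < m) :
    𝒜 m ≤ Submodule.restrictScalars k (MvPolynomial.idealOfVars (Fin (n + 1)) k) := by
  intro p hp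
  refine (pow_one (MvPolynomial.idealOfVars (Fin (n + 1)) k)) ▸
    (MvPolynomial.mem_pow_idealOfVars_iff 1 p).2 fun x hx => ?_
  have : x.degree = m := by
    by_contra hne
    exact MvPolynomial.mem_support_iff.1 hx
      (((MvPolynomial.mem_homogeneousSubmodule m p).1 hp).coeff_eq_zero hne)
  omega

/-- A Hilbert polynomial of `S/I`. -/
def IsHP (I : Ideal S') (P : Polynomial ℚ) : Prop := ∀ᶠ m : ℕ in atTop, hf I m = P.eval (m : ℚ)

open Polynomial in
lemma IsHP.unique {I : Ideal S'} {P Q : Polynomial ℚ} (hP : IsHP I P) (hQ : IsHP I Q) : P = Q := by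
  obtain ⟨N, hN⟩ := eventually_atTop.1 (hP.and hQ)
  refine eq_of_infinite_eval_eq P Q (Set.Infinite.mono ?_
    ((Set.Ici_infinite N).image (f := fun m : ℕ => (m : ℚ)) Nat.cast_injective.injOn))
  rintro _ ⟨m, hm, rfl⟩
  exact (hN m hm).1.symm.trans (hN m hm).2

lemma IsHP.nonneg {I : Ideal S'} {P : Polynomial ℚ} (hP : IsHP I P) :
    ∀ᶠ m : ℕ in atTop, 0 ≤ P.eval (m : ℚ) := hP.mono fun m hm => hm ▸ hf_nonneg I m

/-- The Hilbert polynomial drops along a prime and a form. -/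
lemma IsHP.sup_span_prime {p : Ideal S'} [p.IsPrime] (hp : p.IsHomogeneous 𝒜) {g : S'} {e : ℕ}
    (hg : g ∈ 𝒜 e) (hgp : g ∉ p) {P : Polynomial ℚ} (hP : IsHP p P) :
    IsHP (p ⊔ Ideal.span {g}) (P - P.comp (Polynomial.X - Polynomial.C (e : ℚ))) := by
  obtain ⟨N, hN⟩ := eventually_atTop.1 hP
  refine eventually_atTop.2 ⟨N + e, fun m hm => ?_⟩
  rw [hf_sup_span_prime hp hg hgp (by omega), hN m (by omega), hN (m - e) (by omega)]
  simp [Polynomial.eval_sub, Polynomial.eval_comp, Nat.cast_sub (by omega : e ≤ m)]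

/-- Every homogeneous ideal has a Hilbert polynomial. -/
theorem exists_isHP (I : Ideal S') (hI : I.IsHomogeneous 𝒜) : ∃ P, IsHP I P := by
  induction I using WellFoundedGT.induction with
  | _ I ih =>
  have hprime : ∀ q : Ideal S', q.IsHomogeneous 𝒜 → I ≤ q → q.IsPrime → ∃ P, IsHP q P := by
    intro q hq hle hqp
    by_cases hall : ∀ i : Fin (n + 1), MvPolynomial.X i ∈ q
    · refine ⟨0, eventually_atTop.2 ⟨1, fun m hm => ?_⟩⟩
      rw [Polynomial.eval_zero]
      exact hf_eq_zero ((piece_le_idealOfVars m hm).trans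
        (Ideal.span_le.2 (by rintro _ ⟨i, rfl⟩; exact hall i)))
    push Not at hall
    obtain ⟨i, hi⟩ := hall
    have hX : (MvPolynomial.X i : S') ∈ 𝒜 1 :=
      (MvPolynomial.mem_homogeneousSubmodule _ _).2 (MvPolynomial.isHomogeneous_X k i)
    obtain ⟨D, hD⟩ := ih (q ⊔ Ideal.span {MvPolynomial.X i})
      (lt_of_le_of_lt hle (Submodule.lt_sup_iff_notMem.2 hi)) (sup_span_isHomogeneous hq hX)
    obtain ⟨N, hN⟩ := eventually_atTop.1 hD
    have hdiff : ∀ᶠ m : ℕ in atTop, hf q (m + 1) - hf q m = (D.comp (Polynomial.X + 1)).eval (m : ℚ) := by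
      refine eventually_atTop.2 ⟨N, fun m hm => ?_⟩
      have h1 := hf_sup_span_prime hq hX hi (show 1 ≤ m + 1 by omega)
      rw [hN (m + 1) (by omega), Nat.add_sub_cancel] at h1
      rw [← h1]
      simp
    obtain ⟨Q, -, -, hQ⟩ := CommAlgDim.eventually_of_diff (h := hf q) le_rfl hdiff
    exact ⟨Q, hQ⟩
  by_cases htop : I = ⊤
  · subst htop
    exact ⟨0, Eventually.of_forall fun m => by simp [hf_top]⟩
  by_cases hIp : I.IsPrime
  · exact hprime I hI le_rfl hIp
  obtain ⟨e, g, hg, hgI, hcp⟩ := exists_prime_colon hI htop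
  obtain ⟨P₁, hP₁⟩ := hprime _ (colon_isHomogeneous hI hg)
    (fun a ha => Submodule.mem_colon_singleton.2 (I.mul_mem_right g ha)) hcp
  obtain ⟨P₂, hP₂⟩ := ih (I ⊔ Ideal.span {g}) (Submodule.lt_sup_iff_notMem.2 hgI)
    (sup_span_isHomogeneous hI hg)
  obtain ⟨N, hN⟩ := eventually_atTop.1 (hP₁.and hP₂)
  refine ⟨P₂ + P₁.comp (Polynomial.X - Polynomial.C (e : ℚ)), eventually_atTop.2 ⟨N + e, fun m hm => ?_⟩⟩
  have h1 := hf_sup_span hI hg (fun h => hgI (h ▸ I.zero_mem)) (show e ≤ m by omega)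
  rw [(hN (m - e) (by omega)).1, (hN m (by omega)).2] at h1
  simp [Polynomial.eval_comp, Nat.cast_sub (by omega : e ≤ m)] at h1 ⊢
  linarith

end GradedHilbLib

end
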